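import Mathlib

/-!
# The root system `E₆` and the homomorphisms to `ℤ / 3`: data and check

`main_chk` : for every `θ : ℤ⁶ → ℤ / 3` the positive roots in the kernel have a unique highest root which is not
orthogonal to all others, or (type `3 A₂`) the other two classes have unique dominant roots, exchanged up to sign by the
product of the reflections in the three highest roots.
-/

set_option autoImplicit false

namespace Cfsg.Agent.H807.WfE6.Comb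

/-- the roots -/
def RL : List (List ℤ) :=
  [[-1, -2, -2, -3, -2, -1], [-1, -1, -2, -3, -2, -1], [-1, -1, -2, -2, -2, -1], [-1, -1, -2, -2, -1, -1], [-1,
  -1, -2, -2, -1, 0], [-1, -1, -1, -2, -2, -1], [-1, -1, -1, -2, -1, -1], [-1, -1, -1, -2, -1, 0], [-1, -1, -1,
  -1, -1, -1], [-1, -1, -1, -1, -1, 0], [-1, -1, -1, -1, 0, 0], [-1, 0, -1, -1, -1, -1], [-1, 0, -1, -1, -1, 0],
  [-1, 0, -1, -1, 0, 0], [-1, 0, -1, 0, 0, 0], [-1, 0, 0, 0, 0, 0], [0, -1, -1, -2, -2, -1], [0, -1, -1, -2, -1,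
  -1], [0, -1, -1, -2, -1, 0], [0, -1, -1, -1, -1, -1], [0, -1, -1, -1, -1, 0], [0, -1, -1, -1, 0, 0], [0, -1,
  0, -1, -1, -1], [0, -1, 0, -1, -1, 0], [0, -1, 0, -1, 0, 0], [0, -1, 0, 0, 0, 0], [0, 0, -1, -1, -1, -1], [0,
  0, -1, -1, -1, 0], [0, 0, -1, -1, 0, 0], [0, 0, -1, 0, 0, 0], [0, 0, 0, -1, -1, -1], [0, 0, 0, -1, -1, 0], [0,
  0, 0, -1, 0, 0], [0, 0, 0, 0, -1, -1], [0, 0, 0, 0, -1, 0], [0, 0, 0, 0, 0, -1], [0, 0, 0, 0, 0, 1], [0, 0, 0,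
  0, 1, 0], [0, 0, 0, 0, 1, 1], [0, 0, 0, 1, 0, 0], [0, 0, 0, 1, 1, 0], [0, 0, 0, 1, 1, 1], [0, 0, 1, 0, 0, 0],
  [0, 0, 1, 1, 0, 0], [0, 0, 1, 1, 1, 0], [0, 0, 1, 1, 1, 1], [0, 1, 0, 0, 0, 0], [0, 1, 0, 1, 0, 0], [0, 1, 0,
  1, 1, 0], [0, 1, 0, 1, 1, 1], [0, 1, 1, 1, 0, 0], [0, 1, 1, 1, 1, 0], [0, 1, 1, 1, 1, 1], [0, 1, 1, 2, 1, 0],
  [0, 1, 1, 2, 1, 1], [0, 1, 1, 2, 2, 1], [1, 0, 0, 0, 0, 0], [1, 0, 1, 0, 0, 0], [1, 0, 1, 1, 0, 0], [1, 0, 1,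
  1, 1, 0], [1, 0, 1, 1, 1, 1], [1, 1, 1, 1, 0, 0], [1, 1, 1, 1, 1, 0], [1, 1, 1, 1, 1, 1], [1, 1, 1, 2, 1, 0],
  [1, 1, 1, 2, 1, 1], [1, 1, 1, 2, 2, 1], [1, 1, 2, 2, 1, 0], [1, 1, 2, 2, 1, 1], [1, 1, 2, 2, 2, 1], [1, 1, 2,
  3, 2, 1], [1, 2, 2, 3, 2, 1]]

/-- the roots modulo `3` -/
def RN : List (List ℕ) :=
  [[2, 1, 1, 0, 1, 2], [2, 2, 1, 0, 1, 2], [2, 2, 1, 1, 1, 2], [2, 2, 1, 1, 2, 2], [2, 2, 1, 1, 2, 0], [2, 2, 2,
  1, 1, 2], [2, 2, 2, 1, 2, 2], [2, 2, 2, 1, 2, 0], [2, 2, 2, 2, 2, 2], [2, 2, 2, 2, 2, 0], [2, 2, 2, 2, 0, 0],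
  [2, 0, 2, 2, 2, 2], [2, 0, 2, 2, 2, 0], [2, 0, 2, 2, 0, 0], [2, 0, 2, 0, 0, 0], [2, 0, 0, 0, 0, 0], [0, 2, 2,
  1, 1, 2], [0, 2, 2, 1, 2, 2], [0, 2, 2, 1, 2, 0], [0, 2, 2, 2, 2, 2], [0, 2, 2, 2, 2, 0], [0, 2, 2, 2, 0, 0],
  [0, 2, 0, 2, 2, 2], [0, 2, 0, 2, 2, 0], [0, 2, 0, 2, 0, 0], [0, 2, 0, 0, 0, 0], [0, 0, 2, 2, 2, 2], [0, 0, 2,
  2, 2, 0], [0, 0, 2, 2, 0, 0], [0, 0, 2, 0, 0, 0], [0, 0, 0, 2, 2, 2], [0, 0, 0, 2, 2, 0], [0, 0, 0, 2, 0, 0],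
  [0, 0, 0, 0, 2, 2], [0, 0, 0, 0, 2, 0], [0, 0, 0, 0, 0, 2], [0, 0, 0, 0, 0, 1], [0, 0, 0, 0, 1, 0], [0, 0, 0,
  0, 1, 1], [0, 0, 0, 1, 0, 0], [0, 0, 0, 1, 1, 0], [0, 0, 0, 1, 1, 1], [0, 0, 1, 0, 0, 0], [0, 0, 1, 1, 0, 0],
  [0, 0, 1, 1, 1, 0], [0, 0, 1, 1, 1, 1], [0, 1, 0, 0, 0, 0], [0, 1, 0, 1, 0, 0], [0, 1, 0, 1, 1, 0], [0, 1, 0,
  1, 1, 1], [0, 1, 1, 1, 0, 0], [0, 1, 1, 1, 1, 0], [0, 1, 1, 1, 1, 1], [0, 1, 1, 2, 1, 0], [0, 1, 1, 2, 1, 1],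
  [0, 1, 1, 2, 2, 1], [1, 0, 0, 0, 0, 0], [1, 0, 1, 0, 0, 0], [1, 0, 1, 1, 0, 0], [1, 0, 1, 1, 1, 0], [1, 0, 1,
  1, 1, 1], [1, 1, 1, 1, 0, 0], [1, 1, 1, 1, 1, 0], [1, 1, 1, 1, 1, 1], [1, 1, 1, 2, 1, 0], [1, 1, 1, 2, 1, 1],
  [1, 1, 1, 2, 2, 1], [1, 1, 2, 2, 1, 0], [1, 1, 2, 2, 1, 1], [1, 1, 2, 2, 2, 1], [1, 1, 2, 0, 2, 1], [1, 2, 2,
  0, 2, 1]]

/-- the pairs with inner product `-1` -/
def tab : List ℕ :=
  [2358949385650902663168, 3525408846527344934912, 4074035093504062914560, 4329676287727548497920,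
  4453604072837502468096, 4203084279571906822144, 3942217633142301261824, 3807892988038843203584,
  3365599181998267826176, 3203611177153275756544, 2873586129673859956736, 2187020074372205641728,
  2016964133579194499072, 1682905118127473360896, 1051248243824923181056, 147429837402611318784,
  4205892326715323114496, 3873867671477399114240, 3707853430003830147328, 3255908423156140912768,
  3103715729908560865344, 2806244943539633952800, 2481146119833859944464, 2458076710946253858824,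
  2418858379532774168580, 2377333008969070819330, 2067246837884237416064, 1919085181864060683584,
  1623629914110439752480, 1033169726195355386080, 1292479649987567830544, 1273447139822849770760,
  1236247257770913972996, 674500213135741559952, 669309514501601764424, 342440805494068351632,
  171220402747034175816, 334654757173491470884, 168625053283935389988, 604281814184119115970,
  306826939771233046690, 154639049321368193122, 129200255121187422236, 87695007155185131546,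
  48495534932632080406, 25436823321561466894, 1182609298771448170241, 592169365394956879041,
  296733220714801595041, 148582789736615838049, 75588419857495753753, 38406700457609986581,
  19383494489064800525, 10592466674046402707, 5404319730371461195, 2810246196686094375, 70997664828784608,
  64039406029291292, 43699407014649050, 24418042410756790, 12877524275097966, 36085284481328089,
  18061213696054709, 9035279789248109, 4543532111279731, 2273967234788779, 1139123050093511, 565493517022863,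
  282747162226007, 141313753832251, 70376730605821, 67045374]

/-- the inner product -/
def ip : List ℤ → List ℤ → ℤ
  | [a0, a1, a2, a3, a4, a5], [b0, b1, b2, b3, b4, b5] =>
    2 * (a0 * b0 + a1 * b1 + a2 * b2 + a3 * b3 + a4 * b4 + a5 * b5) -
      (a0 * b2 + a2 * b0 + a2 * b3 + a3 * b2 + a1 * b3 + a3 * b1 + a3 * b4 + a4 * b3 + a4 * b5 + a5 * b4)
  | _, _ => 0

/-- the reflection -/
def rf (m x : List ℤ) : List ℤ := List.zipWith (fun a b => a - ip x m * b) x m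

/-- the value -/
def ev : List ℕ → List ℕ → ℕ
  | [t0, t1, t2, t3, t4, t5], [a0, a1, a2, a3, a4, a5] => (t0 * a0 + t1 * a1 + t2 * a2 + t3 * a3 + t4 * a4 + t5 * a5) % 3
  | _, _ => 3

/-- the bit mask of a list of booleans -/
def mk : List Bool → ℕ
  | [] => 0
  | b :: L => 2 * mk L + cond b 1 0

/-- the mask of the roots with value `j` -/
def msk (th : List ℕ) (j : ℕ) : ℕ := mk (RN.map fun a => ev th a == j)

/-- the indices with a property -/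
def fil (p : ℕ → Bool) : List ℕ := (List.range 72).filter p

/-- `sp` : positive roots with value `0` -/
def sp (z : ℕ) : ℕ := (z >>> 36) <<< 36

def sn (z : ℕ) : ℕ := z % 2 ^ 36

/-- highest roots -/
def pM (z : ℕ) (s : ℕ) : Bool := (sp z).testBit s && (tab.getD s 0 &&& sp z) == 0

/-- highest roots of the components different from `A₁` -/
def pA (z : ℕ) (s : ℕ) : Bool := pM z s && !((tab.getD s 0 &&& sn z) == 0)

/-- dominant roots in the set `y` -/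
def pQ (z y : ℕ) (s : ℕ) : Bool := y.testBit s && (tab.getD s 0 &&& sp z) == 0

/-- the second case -/
def chkB (z y1 y2 : ℕ) : Bool :=
  match fil (pM z), fil (pQ z y1), fil (pQ z y2) with
  | [m1, m2, m3], [b1], [b2] =>
    decide (rf (RL.getD m3 []) (rf (RL.getD m2 []) (rf (RL.getD m1 []) (RL.getD b2 []))) = RL.getD (71 - b1) [])
  | _, _, _ => false

/-- the check -/
def chk (th : List ℕ) : Bool :=
  match fil (pA (msk th 0)) with
  | [_] => true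
  | _ => chkB (msk th 0) (msk th 1) (msk th 2)

set_option maxRecDepth 100000

theorem tab_chk : ∀ s < 72, ∀ s' < 72,
    (tab.getD s 0).testBit s' = decide (ip (RL.getD s []) (RL.getD s' []) = -1) := by decide +kernel

/-! The check, in nine parts. -/

theorem mc00 : ∀ t2 < 3, ∀ t3 < 3, ∀ t4 < 3, ∀ t5 < 3, chk [0, 0, t2, t3, t4, t5] = true := by decide +kernel
theorem mc01 : ∀ t2 < 3, ∀ t3 < 3, ∀ t4 < 3, ∀ t5 < 3, chk [0, 1, t2, t3, t4, t5] = true := by decide +kernel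
theorem mc02 : ∀ t2 < 3, ∀ t3 < 3, ∀ t4 < 3, ∀ t5 < 3, chk [0, 2, t2, t3, t4, t5] = true := by decide +kernel
theorem mc10 : ∀ t2 < 3, ∀ t3 < 3, ∀ t4 < 3, ∀ t5 < 3, chk [1, 0, t2, t3, t4, t5] = true := by decide +kernel
theorem mc11 : ∀ t2 < 3, ∀ t3 < 3, ∀ t4 < 3, ∀ t5 < 3, chk [1, 1, t2, t3, t4, t5] = true := by decide +kernel
theorem mc12 : ∀ t2 < 3, ∀ t3 < 3, ∀ t4 < 3, ∀ t5 < 3, chk [1, 2, t2, t3, t4, t5] = true := by decide +kernel
theorem mc20 : ∀ t2 < 3, ∀ t3 < 3, ∀ t4 < 3, ∀ t5 < 3, chk [2, 0, t2, t3, t4, t5] = true := by decide +kernel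
theorem mc21 : ∀ t2 < 3, ∀ t3 < 3, ∀ t4 < 3, ∀ t5 < 3, chk [2, 1, t2, t3, t4, t5] = true := by decide +kernel
theorem mc22 : ∀ t2 < 3, ∀ t3 < 3, ∀ t4 < 3, ∀ t5 < 3, chk [2, 2, t2, t3, t4, t5] = true := by decide +kernel

theorem main_chk : ∀ t0 < 3, ∀ t1 < 3, ∀ t2 < 3, ∀ t3 < 3, ∀ t4 < 3, ∀ t5 < 3, chk [t0, t1, t2, t3, t4, t5] = true := by
  intro t0 h0 t1 h1
  interval_cases t0 <;> interval_cases t1
  · exact mc00
  · exact mc01
  · exact mc02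
  · exact mc10
  · exact mc11
  · exact mc12
  · exact mc20
  · exact mc21
  · exact mc22

end Cfsg.Agent.H807.WfE6.Comb
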