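import Mathlib
import Cfsg.Agent.H807.WfE6.CombData
import Cfsg.Agent.H897.T5UntwRow

/-!
# The root system `E₆` and the homomorphisms to `ℤ / 3`

`comb` : `θ : ℤ⁶ → ℤ / 3`, `G` an automorphism of the root system, `θ G = ± θ`, preserving the positivity of the roots in
`ker θ` : `G` fixes a root, or `G` composed with three reflections in roots of `ker θ` maps a root to its negative.
-/

set_option autoImplicit false
set_option linter.unusedSectionVars false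

namespace Cfsg.Agent.H807.WfE6.Comb

open CoxeterSystem Cfsg Cfsg.Lie Cfsg.Lie.ChevalleyDatum
open Cfsg.Agent.ChevalleyStructure Cfsg.Agent.ChevalleyStructure.Elts Cfsg.Agent.ChevalleyStructure.CoxeterGeom
  Cfsg.Agent.ChevalleyStructure.CoxeterGeomTypes Cfsg.Agent.ChevalleyStructure.NPerm
open Cfsg.Agent.Tits.Roots Cfsg.Agent.Tits.Core Cfsg.Agent.Nodes Cfsg.Agent.Nodes.Reps Cfsg.Agent.Nodes.BNOf
  Cfsg.Agent.Nodes.RGDChev Cfsg.Agent.Nodes.Bruhat Cfsg.Agent.Nodes.SubComb Cfsg.Agent.Nodes.Coroot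

/-! ### bit masks -/

theorem testBit_mk : ∀ (L : List Bool) (s : ℕ), (mk L).testBit s = L.getD s false
  | [], s => by simp [mk]
  | b :: L, 0 => by
    cases b <;> simp [mk, Nat.testBit_zero]
  | b :: L, s + 1 => by
    have h1 : (2 * mk L + cond b 1 0) / 2 = mk L := by
      cases b
      · simp
      · simp only [cond_true]; omega
    rw [List.getD_cons_succ, ← testBit_mk L s, mk, Nat.testBit_succ, h1]

theorem land_eq_zero {a b : ℕ} : ((a &&& b) == 0) = true ↔ ∀ s, a.testBit s = true → b.testBit s = false := by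
  rw [beq_iff_eq]
  constructor
  · intro h s hs
    have h1 := congrArg (fun x => x.testBit s) h
    simp only [Nat.testBit_land, Nat.zero_testBit] at h1
    rw [hs, Bool.true_and] at h1
    exact h1
  · intro h
    apply Nat.eq_of_testBit_eq
    intro s
    rw [Nat.testBit_land, Nat.zero_testBit]
    cases h1 : a.testBit s
    · rfl
    · rw [h s h1]; rfl

theorem testBit_sp {z s : ℕ} : (sp z).testBit s = true ↔ 36 ≤ s ∧ z.testBit s = true := by
  unfold sp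
  rw [Nat.testBit_shiftLeft, Nat.testBit_shiftRight]
  constructor
  · intro h
    rw [Bool.and_eq_true, decide_eq_true_iff] at h
    refine ⟨h.1, ?_⟩
    have h2 := h.2
    rwa [Nat.add_sub_cancel' h.1] at h2
  · rintro ⟨h1, h2⟩
    rw [Bool.and_eq_true, decide_eq_true_iff]
    exact ⟨h1, by rwa [Nat.add_sub_cancel' h1]⟩

theorem testBit_sn {z s : ℕ} : (sn z).testBit s = true ↔ s < 36 ∧ z.testBit s = true := by
  unfold sn
  rw [Nat.testBit_mod_two_pow, Bool.and_eq_true, decide_eq_true_iff]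

theorem mem_fil {p : ℕ → Bool} {s : ℕ} : s ∈ fil p ↔ s < 72 ∧ p s = true := by
  unfold fil
  rw [List.mem_filter, List.mem_range]

/-! ### the roots -/

/-- the root with index `s` -/
def rv (s : ℕ) : Fin 6 → ℤ := fun i => (RL.getD s []).getD i 0

theorem vec_eq : ∀ s < 72, vec chevE6 6 s = rv s := by
  intro s hs
  have h1 : ∀ s < 72, ∀ i : Fin 6, vec chevE6 6 s i = rv s i := by decide +kernel
  exact funext (h1 s hs)

theorem len_eq : ∀ s < 72, (RL.getD s []).length = 6 ∧ (RN.getD s []).length = 6 := by decide +kernel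

theorem rn_eq : ∀ s < 72, ∀ i < 6, (((RN.getD s []).getD i 0 : ℕ) : ℤ) = (RL.getD s []).getD i 0 % 3 := by decide +kernel

theorem nonneg_iff {s : ℕ} (hs : s < 72) : 0 ≤ rv s ↔ 36 ≤ s := by
  have h1 : ∀ s < 72, (∀ i : Fin 6, 0 ≤ rv s i) ↔ 36 ≤ s := by decide +kernel
  rw [← h1 s hs]
  exact Iff.rfl

theorem neg_eq : ∀ s < 72, -rv s = rv (71 - s) := by decide +kernel

theorem cartan_eq : ∀ i j : Fin 6, cartanOf chevE6 6 i j = (![![2, 0, -1, 0, 0, 0], ![0, 2, 0, -1, 0, 0],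
    ![-1, 0, 2, -1, 0, 0], ![0, -1, -1, 2, -1, 0], ![0, 0, 0, -1, 2, -1], ![0, 0, 0, 0, -1, 2]] : Fin 6 → Fin 6 → ℤ) i j := by
  decide +kernel

/-- the vector of a list -/
def lv (L : List ℤ) : Fin 6 → ℤ := fun i => L.getD i 0

theorem exists_list {L : List ℤ} (hL : L.length = 6) : ∃ a0 a1 a2 a3 a4 a5, L = [a0, a1, a2, a3, a4, a5] := by
  match L, hL with
  | [a0, a1, a2, a3, a4, a5], _ => exact ⟨a0, a1, a2, a3, a4, a5, rfl⟩

theorem ip_eq {L L' : List ℤ} (hL : L.length = 6) (hL' : L'.length = 6) :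
    H897.T5Lat.bf (cartanOf chevE6 6) (lv L) (lv L') = ip L L' := by
  obtain ⟨a0, a1, a2, a3, a4, a5, rfl⟩ := exists_list hL
  obtain ⟨b0, b1, b2, b3, b4, b5, rfl⟩ := exists_list hL'
  rw [H897.T5Lat.bf_apply]
  simp only [cartan_eq, Fin.sum_univ_six, lv, ip]
  simp
  ring

theorem rf_eq {L L' : List ℤ} (hL : L.length = 6) (hL' : L'.length = 6) : (rf L L').length = 6 ∧
    lv (rf L L') = lv L' - H897.T5Lat.bf (cartanOf chevE6 6) (lv L') (lv L) • lv L := by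
  rw [ip_eq hL' hL]
  obtain ⟨a0, a1, a2, a3, a4, a5, rfl⟩ := exists_list hL
  obtain ⟨b0, b1, b2, b3, b4, b5, rfl⟩ := exists_list hL'
  obtain ⟨c, hc⟩ : ∃ c, c = ip [b0, b1, b2, b3, b4, b5] [a0, a1, a2, a3, a4, a5] := ⟨_, rfl⟩
  unfold rf
  rw [← hc]
  refine ⟨rfl, ?_⟩
  funext i
  fin_cases i <;> simp [lv]

theorem lv_getD (s : ℕ) : lv (RL.getD s []) = rv s := rfl

/-! ### the values -/

theorem exists_listN {L : List ℕ} (hL : L.length = 6) : ∃ a0 a1 a2 a3 a4 a5, L = [a0, a1, a2, a3, a4, a5] := by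
  match L, hL with
  | [a0, a1, a2, a3, a4, a5], _ => exact ⟨a0, a1, a2, a3, a4, a5, rfl⟩

/-- the list of values on the simple roots -/
def tl (θ : (Fin 6 → ℤ) →+ ZMod 3) : List ℕ :=
  [(θ (sr 0)).val, (θ (sr 1)).val, (θ (sr 2)).val, (θ (sr 3)).val, (θ (sr 4)).val, (θ (sr 5)).val]

theorem theta_eq (θ : (Fin 6 → ℤ) →+ ZMod 3) (a : Fin 6 → ℤ) : θ a = ∑ i, (a i : ZMod 3) * θ (sr i) := by
  conv_lhs => rw [Cfsg.Agent.Nodes.SimplyLaced.eq_sum_sr a]
  rw [map_sum]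
  refine Finset.sum_congr rfl fun i _ => ?_
  rw [map_zsmul, zsmul_eq_mul]

theorem ev_eq (θ : (Fin 6 → ℤ) →+ ZMod 3) {s : ℕ} (hs : s < 72) :
    ((ev (tl θ) (RN.getD s []) : ℕ) : ZMod 3) = θ (rv s) := by
  rw [theta_eq]
  obtain ⟨a0, a1, a2, a3, a4, a5, hL⟩ := exists_list (len_eq s hs).1
  obtain ⟨b0, b1, b2, b3, b4, b5, hN⟩ := exists_listN (len_eq s hs).2
  have h1 := rn_eq s hs
  have e := fun i hi => (show ((((RN.getD s []).getD i 0 : ℕ) : ℤ) : ZMod 3) = (((RL.getD s []).getD i 0 : ℤ) : ZMod 3) by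
    rw [h1 i hi]; exact_mod_cast ZMod.intCast_mod _ 3)
  have e0 := e 0 (by norm_num)
  have e1 := e 1 (by norm_num)
  have e2 := e 2 (by norm_num)
  have e3 := e 3 (by norm_num)
  have e4 := e 4 (by norm_num)
  have e5 := e 5 (by norm_num)
  rw [hL, hN] at e0 e1 e2 e3 e4 e5
  simp only [List.getD_cons_zero, List.getD_cons_succ, Int.cast_natCast] at e0 e1 e2 e3 e4 e5
  rw [hN, tl, ev, ZMod.natCast_mod]
  simp only [Fin.sum_univ_six, rv, hL]
  push_cast
  rw [ZMod.natCast_zmod_val, ZMod.natCast_zmod_val, ZMod.natCast_zmod_val, ZMod.natCast_zmod_val,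
    ZMod.natCast_zmod_val, ZMod.natCast_zmod_val, e0, e1, e2, e3, e4, e5]
  simp
  ring

theorem ev_lt (θ : (Fin 6 → ℤ) →+ ZMod 3) {s : ℕ} (hs : s < 72) : ev (tl θ) (RN.getD s []) < 3 := by
  obtain ⟨b0, b1, b2, b3, b4, b5, hN⟩ := exists_listN (len_eq s hs).2
  rw [hN, tl, ev]
  exact Nat.mod_lt _ (by norm_num)

/-- **The masks.** -/
theorem testBit_msk (θ : (Fin 6 → ℤ) →+ ZMod 3) {s : ℕ} (hs : s < 72) {j : ℕ} (hj : j < 3) :
    (msk (tl θ) j).testBit s = true ↔ θ (rv s) = (j : ZMod 3) := by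
  unfold msk
  rw [testBit_mk]
  have h0 : (false : Bool) = (fun a => ev (tl θ) a == j) [] := by
    show false = (ev (tl θ) [] == j)
    have : ev (tl θ) [] = 3 := rfl
    rw [this]
    symm
    rw [beq_eq_false_iff_ne]
    omega
  rw [h0, List.getD_map, beq_iff_eq, ← ev_eq θ hs]
  constructor
  · intro h
    rw [h]
  · intro h
    have h1 := congrArg ZMod.val h
    rwa [ZMod.val_natCast, ZMod.val_natCast, Nat.mod_eq_of_lt (ev_lt θ hs), Nat.mod_eq_of_lt hj] at h1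

theorem lt_of_testBit_msk (θ : (Fin 6 → ℤ) →+ ZMod 3) {s j : ℕ} (h : (msk (tl θ) j).testBit s = true) : s < 72 := by
  unfold msk at h
  rw [testBit_mk] at h
  by_contra hcon
  rw [List.getD_eq_default _ _ (by rw [List.length_map]; exact le_trans (by decide : RN.length ≤ 72) (not_lt.1 hcon))] at h
  exact Bool.false_ne_true h

/-! ### the combinatorial statement -/

section Main

variable {W : Type*} [Group W] (hp : IsType chevE6 6 CoxeterMatrix.E₆) (cs : CoxeterSystem CoxeterMatrix.E₆ W)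

include hp in
theorem isRoot_iff' (a : Fin 6 → ℤ) : IsRoot cs hp.isCartan a ↔ ∃ s < 72, rv s = a := by
  rw [isRoot_iff hp cs a]
  constructor
  · rintro ⟨s, hs, h⟩
    exact ⟨s, hs, by rw [← vec_eq s hs]; exact h⟩
  · rintro ⟨s, hs, h⟩
    exact ⟨s, hs, by rw [vec_eq s hs]; exact h⟩

theorem bf_rv {s s' : ℕ} (hs : s < 72) (hs' : s' < 72) :
    H897.T5Lat.bf (cartanOf chevE6 6) (rv s) (rv s') = ip (RL.getD s []) (RL.getD s' []) := by
  rw [← lv_getD, ← lv_getD]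
  exact ip_eq (len_eq s hs).1 (len_eq s' hs').1

theorem testBit_tab {s s' : ℕ} (hs : s < 72) (hs' : s' < 72) :
    (tab.getD s 0).testBit s' = true ↔ H897.T5Lat.bf (cartanOf chevE6 6) (rv s) (rv s') = -1 := by
  rw [tab_chk s hs s' hs', decide_eq_true_iff, bf_rv hs hs']

variable (θ : (Fin 6 → ℤ) →+ ZMod 3)

/-- the positive roots of the kernel -/
def SPl (b : Fin 6 → ℤ) : Prop := IsRoot cs hp.isCartan b ∧ 0 ≤ b ∧ θ b = 0

/-- dominant roots in the class `j` -/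
def Dm (j : ZMod 3) (a : Fin 6 → ℤ) : Prop := IsRoot cs hp.isCartan a ∧ θ a = j ∧
  ∀ b, SPl hp cs θ b → H897.T5Lat.bf (cartanOf chevE6 6) a b ≠ -1

/-- the highest roots of the components different from `A₁` -/
def Hi (a : Fin 6 → ℤ) : Prop := SPl hp cs θ a ∧ Dm hp cs θ 0 a ∧
  ∃ b, SPl hp cs θ b ∧ H897.T5Lat.bf (cartanOf chevE6 6) a b = 1

theorem testBit_spm {s : ℕ} (hs : s < 72) : (sp (msk (tl θ) 0)).testBit s = true ↔ SPl hp cs θ (rv s) := by
  rw [testBit_sp, testBit_msk θ hs (by norm_num), ← nonneg_iff hs]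
  constructor
  · rintro ⟨h1, h2⟩
    exact ⟨(isRoot_iff' hp cs _).2 ⟨s, hs, rfl⟩, h1, by rw [h2]; rfl⟩
  · rintro ⟨-, h1, h2⟩
    exact ⟨h1, by rw [h2]; rfl⟩

theorem tab_sp {s : ℕ} (hs : s < 72) : ((tab.getD s 0 &&& sp (msk (tl θ) 0)) == 0) = true ↔
    ∀ b, SPl hp cs θ b → H897.T5Lat.bf (cartanOf chevE6 6) (rv s) b ≠ -1 := by
  rw [land_eq_zero]
  constructor
  · intro h b hb hc
    obtain ⟨s', hs', rfl⟩ := (isRoot_iff' hp cs b).1 hb.1
    have h1 := h s' ((testBit_tab hs hs').2 hc)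
    rw [(testBit_spm hp cs θ hs').2 hb] at h1
    exact Bool.false_ne_true h1.symm
  · intro h s' hs'
    by_contra hcon
    rw [Bool.not_eq_false] at hcon
    have h1 : s' < 72 := lt_of_testBit_msk θ (testBit_sp.1 hcon).2
    exact h _ ((testBit_spm hp cs θ h1).1 hcon) ((testBit_tab hs h1).1 hs')

theorem pQ_iff {s : ℕ} (hs : s < 72) {j : ℕ} (hj : j < 3) :
    pQ (msk (tl θ) 0) (msk (tl θ) j) s = true ↔ Dm hp cs θ (j : ZMod 3) (rv s) := by
  unfold pQ
  rw [Bool.and_eq_true, tab_sp hp cs θ hs, testBit_msk θ hs hj]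
  exact ⟨fun h => ⟨(isRoot_iff' hp cs _).2 ⟨s, hs, rfl⟩, h.1, h.2⟩, fun h => ⟨h.2.1, h.2.2⟩⟩

theorem pM_iff {s : ℕ} (hs : s < 72) : pM (msk (tl θ) 0) s = true ↔ SPl hp cs θ (rv s) ∧ Dm hp cs θ 0 (rv s) := by
  unfold pM
  rw [Bool.and_eq_true, tab_sp hp cs θ hs, testBit_spm hp cs θ hs]
  exact ⟨fun h => ⟨h.1, h.1.1, h.1.2.2, h.2⟩, fun h => ⟨h.1, h.2.2.2⟩⟩

theorem bf_neg_right (a b : Fin 6 → ℤ) : H897.T5Lat.bf (cartanOf chevE6 6) a (-b) =
    -H897.T5Lat.bf (cartanOf chevE6 6) a b := by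
  rw [map_neg]

theorem pA_iff {s : ℕ} (hs : s < 72) : pA (msk (tl θ) 0) s = true ↔ Hi hp cs θ (rv s) := by
  unfold pA Hi
  rw [Bool.and_eq_true, pM_iff hp cs θ hs, and_assoc, Bool.not_eq_true', ← Bool.not_eq_true, land_eq_zero]
  have key : (¬ ∀ s', (tab.getD s 0).testBit s' = true → (sn (msk (tl θ) 0)).testBit s' = false) ↔
      ∃ b, SPl hp cs θ b ∧ H897.T5Lat.bf (cartanOf chevE6 6) (rv s) b = 1 := by
    constructor
    · intro h
      push Not at h
      obtain ⟨s', h1, h2⟩ := h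
      rw [Bool.ne_false_iff] at h2
      obtain ⟨h3, h4⟩ := testBit_sn.1 h2
      have hs' : s' < 72 := by omega
      refine ⟨rv (71 - s'), ⟨(isRoot_iff' hp cs _).2 ⟨71 - s', by omega, rfl⟩,
        (nonneg_iff (by omega)).2 (by omega), ?_⟩, ?_⟩
      · rw [← neg_eq s' hs', map_neg, (testBit_msk θ hs' (by norm_num)).1 h4]
        simp
      · rw [← neg_eq s' hs', bf_neg_right, (testBit_tab hs hs').1 h1]
        norm_num
    · rintro ⟨b, hb, h1⟩ hcon
      obtain ⟨s', hs', rfl⟩ := (isRoot_iff' hp cs b).1 hb.1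
      have h2 : 36 ≤ s' := (nonneg_iff hs').1 hb.2.1
      have h3 : rv (71 - s') = -rv s' := (neg_eq s' hs').symm
      have h4 := hcon (71 - s') ((testBit_tab hs (by omega)).2 (by rw [h3, bf_neg_right, h1]))
      have h5 : (sn (msk (tl θ) 0)).testBit (71 - s') = true := by
        rw [testBit_sn, testBit_msk θ (by omega) (by norm_num), h3, map_neg, hb.2.2]
        exact ⟨by omega, by simp⟩
      rw [h5] at h4
      exact Bool.false_ne_true h4.symm
  rw [key]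

/-! ### automorphisms of the root system -/

/-- the properties of `G` -/
structure GP (G : (Fin 6 → ℤ) ≃+ (Fin 6 → ℤ)) (ε : ZMod 3) : Prop where
  root : ∀ a, IsRoot cs hp.isCartan (G a) ↔ IsRoot cs hp.isCartan a
  th : ∀ a, θ (G a) = ε * θ a
  unit : ε = 1 ∨ ε = -1
  pos : ∀ a, SPl hp cs θ a → 0 ≤ G a

/-- the reflection -/
noncomputable def rx (m x : Fin 6 → ℤ) : Fin 6 → ℤ := x - H897.T5Lat.bf (cartanOf chevE6 6) x m • m

variable [Finite W]

theorem bf_eq_iff {a b : Fin 6 → ℤ} (ha : IsRoot cs hp.isCartan a) (hb : IsRoot cs hp.isCartan b) :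
    H897.T5Lat.bf (cartanOf chevE6 6) a b = -1 ↔ IsRoot cs hp.isCartan (a + b) := by
  have F := H897.T5UntwRow.par6.frm cs hp.isCartan (fun i j => (H897.T5UntwRow.n6 i j).1)
    (fun i j => (H897.T5UntwRow.n6 i j).2)
  constructor
  · intro h
    have h1 := isRoot_refl cs hp.isCartan ha hb
    rw [← F.cpr a b hb, h] at h1
    have h2 : a - (-1 : ℤ) • b = a + b := by rw [neg_smul, one_smul, sub_neg_eq_add]
    rwa [h2] at h1
  · intro h
    have h1 := F.norm_add a b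
    rw [F.self h, F.self ha, F.self hb] at h1
    omega

variable {hp cs θ} {G : (Fin 6 → ℤ) ≃+ (Fin 6 → ℤ)} {ε : ZMod 3}

theorem GP.bf_iff (H : GP hp cs θ G ε) {a b : Fin 6 → ℤ} (ha : IsRoot cs hp.isCartan a)
    (hb : IsRoot cs hp.isCartan b) :
    H897.T5Lat.bf (cartanOf chevE6 6) (G a) (G b) = -1 ↔ H897.T5Lat.bf (cartanOf chevE6 6) a b = -1 := by
  rw [bf_eq_iff hp cs ((H.root a).2 ha) ((H.root b).2 hb), ← map_add, H.root, ← bf_eq_iff hp cs ha hb]

theorem GP.spl (H : GP hp cs θ G ε) {b : Fin 6 → ℤ} (hb : SPl hp cs θ b) : SPl hp cs θ (G b) :=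
  ⟨(H.root b).2 hb.1, H.pos b hb, by rw [H.th, hb.2.2, mul_zero]⟩

theorem GP.surj (H : GP hp cs θ G ε) {b : Fin 6 → ℤ} (hb : SPl hp cs θ b) : ∃ b', SPl hp cs θ b' ∧ G b' = b := by
  obtain ⟨b', rfl⟩ := G.surjective b
  have hr := (H.root b').1 hb.1
  have h0 : θ b' = 0 := by
    have h1 := hb.2.2
    rw [H.th] at h1
    rcases H.unit with h2 | h2
    · rwa [h2, one_mul] at h1
    · rwa [h2, neg_one_mul, neg_eq_zero] at h1
  refine ⟨b', ⟨hr, ?_, h0⟩, rfl⟩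
  rcases hr.pos_or_neg with h1 | h1
  · exact h1
  · exfalso
    have h2 := H.pos (-b') ⟨hr.neg, neg_nonneg.2 h1, by rw [map_neg, h0, neg_zero]⟩
    rw [map_neg] at h2
    exact hb.1.ne_zero (le_antisymm (neg_nonneg.1 h2) hb.2.1)

theorem GP.dm (H : GP hp cs θ G ε) {j : ZMod 3} {a : Fin 6 → ℤ} (ha : Dm hp cs θ j a) :
    Dm hp cs θ (ε * j) (G a) := by
  refine ⟨(H.root a).2 ha.1, by rw [H.th, ha.2.1], fun b hb hc => ?_⟩
  obtain ⟨b', hb', rfl⟩ := H.surj hb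
  exact ha.2.2 b' hb' ((H.bf_iff ha.1 hb'.1).1 hc)

theorem GP.hi (H : GP hp cs θ G ε) {a : Fin 6 → ℤ} (ha : Hi hp cs θ a) : Hi hp cs θ (G a) := by
  obtain ⟨h1, h2, b, hb, h3⟩ := ha
  have h4 := H.dm h2
  rw [mul_zero] at h4
  refine ⟨H.spl h1, h4, G b, H.spl hb, ?_⟩
  have h5 : H897.T5Lat.bf (cartanOf chevE6 6) a (-b) = -1 := by rw [bf_neg_right, h3]
  have h6 := (H.bf_iff h1.1 hb.1.neg).2 h5
  rw [map_neg, bf_neg_right] at h6
  omega

/-- **The combinatorial statement.** -/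
theorem comb (H : GP hp cs θ G ε) : (∃ a, IsRoot cs hp.isCartan a ∧ G a = a) ∨
    ∃ a m1 m2 m3, IsRoot cs hp.isCartan a ∧ SPl hp cs θ m1 ∧ SPl hp cs θ m2 ∧ SPl hp cs θ m3 ∧
      rx m3 (rx m2 (rx m1 (G a))) = -a := by
  have hchk : chk (tl θ) = true := main_chk _ (ZMod.val_lt _) _ (ZMod.val_lt _) _ (ZMod.val_lt _) _ (ZMod.val_lt _) _
    (ZMod.val_lt _) _ (ZMod.val_lt _)
  -- unique elements
  have uq : ∀ (p : ℕ → Bool) (P : (Fin 6 → ℤ) → Prop) (s : ℕ), (∀ s < 72, (p s = true ↔ P (rv s))) →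
      (∀ a, P a → IsRoot cs hp.isCartan a) → fil p = [s] → P (rv s) ∧ ∀ a, P a → a = rv s := by
    intro p P s h1 h2 h3
    have h4 := mem_fil.1 (show s ∈ fil p by rw [h3]; exact List.mem_singleton.2 rfl)
    refine ⟨(h1 s h4.1).1 h4.2, fun a ha => ?_⟩
    obtain ⟨s', hs', rfl⟩ := (isRoot_iff' hp cs a).1 (h2 a ha)
    have h5 : s' ∈ fil p := mem_fil.2 ⟨hs', (h1 s' hs').2 ha⟩
    rw [h3, List.mem_singleton] at h5
    rw [h5]
  unfold chk at hchk
  split at hchk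
  · rename_i s hs
    left
    obtain ⟨h1, h2⟩ := uq _ (Hi hp cs θ) s (fun s hs => pA_iff hp cs θ hs) (fun a ha => ha.1.1) hs
    exact ⟨rv s, h1.1.1, h2 _ (H.hi h1)⟩
  · unfold chkB at hchk
    split at hchk
    · rename_i m1 m2 m3 b1 b2 hm hb1 hb2
      obtain ⟨h1, h2⟩ := uq _ (Dm hp cs θ ((1 : ℕ) : ZMod 3)) b1 (fun s hs => pQ_iff hp cs θ hs (by norm_num))
        (fun a ha => ha.1) hb1
      obtain ⟨h3, h4⟩ := uq _ (Dm hp cs θ ((2 : ℕ) : ZMod 3)) b2 (fun s hs => pQ_iff hp cs θ hs (by norm_num))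
        (fun a ha => ha.1) hb2
      have h5 := H.dm h1
      rcases H.unit with h6 | h6
      · left
        rw [h6, one_mul] at h5
        exact ⟨rv b1, h1.1, h2 _ h5⟩
      · right
        have h7 : ε * ((1 : ℕ) : ZMod 3) = ((2 : ℕ) : ZMod 3) := by rw [h6]; decide
        rw [h7] at h5
        have h8 := h4 _ h5
        have hM : ∀ m ∈ fil (pM (msk (tl θ) 0)), m < 72 ∧ SPl hp cs θ (rv m) := fun m hm => by
          have h9 := mem_fil.1 hm
          exact ⟨h9.1, ((pM_iff hp cs θ h9.1).1 h9.2).1⟩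
        obtain ⟨a1, a2⟩ := hM m1 (by rw [hm]; simp)
        obtain ⟨a3, a4⟩ := hM m2 (by rw [hm]; simp)
        obtain ⟨a5, a6⟩ := hM m3 (by rw [hm]; simp)
        refine ⟨rv b1, rv m1, rv m2, rv m3, h1.1, a2, a4, a6, ?_⟩
        rw [h8]
        have c1 := mem_fil.1 (show b1 ∈ fil _ by rw [hb1]; exact List.mem_singleton.2 rfl)
        have c2 := mem_fil.1 (show b2 ∈ fil _ by rw [hb2]; exact List.mem_singleton.2 rfl)
        have e1 := rf_eq (len_eq m1 a1).1 (len_eq b2 c2.1).1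
        have e2 := rf_eq (len_eq m2 a3).1 e1.1
        have e3 := rf_eq (len_eq m3 a5).1 e2.1
        have e4 := congrArg lv (of_decide_eq_true hchk)
        rw [e3.2, e2.2, e1.2] at e4
        rw [neg_eq b1 c1.1]
        exact e4
    · exact absurd hchk (by simp)

end Main

end Cfsg.Agent.H807.WfE6.Comb
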