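import Mathlib
import Cfsg.Agent.H807.WfE6.Comb
import Cfsg.Agent.H807.WfE6.Fin
import Cfsg.Agent.H897.T5Frame

/-!
# The highest root of `E₆`

* `a0`, `bf_a0`, `isRoot_a0`, `dom_a0`, `orth_a0`;
* `B_norm` : `B` normalises `X a0`.
-/

set_option autoImplicit false
set_option linter.unusedSectionVars false

namespace Cfsg.Agent.H807.WfE6.Geo

open CoxeterSystem Cfsg Cfsg.Lie Cfsg.Lie.ChevalleyDatum
open Cfsg.Agent.ChevalleyStructure Cfsg.Agent.ChevalleyStructure.Elts Cfsg.Agent.ChevalleyStructure.CoxeterGeom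
  Cfsg.Agent.ChevalleyStructure.CoxeterGeomTypes Cfsg.Agent.ChevalleyStructure.NPerm
open Cfsg.Agent.Tits.Roots Cfsg.Agent.Tits.Core Cfsg.Agent.Nodes Cfsg.Agent.Nodes.Reps Cfsg.Agent.Nodes.BNOf
  Cfsg.Agent.Nodes.RGDChev Cfsg.Agent.Nodes.Bruhat Cfsg.Agent.Nodes.SubComb Cfsg.Agent.Nodes.Coroot
  Cfsg.Agent.Nodes.StabComb
open Cfsg.Agent.H897.T5Lat Cfsg.Agent.H897.T5UntwRow Cfsg.Agent.H807.WfE6.Comb
open scoped commutatorElement

section Frm

variable {I W : Type*} [Fintype I] [DecidableEq I] [Group W] [Finite W] {M : CoxeterMatrix I}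
  {cs : CoxeterSystem M W} {A : I → I → ℤ} {h : IsCartan M A} {B : LinearMap.BilinForm ℤ (I → ℤ)}

/-- no root between two roots with angle `60°` -/
theorem not_btwn_one (F : Frm cs h B) {x y z : I → ℤ} (hx : IsRoot cs h x) (hy : IsRoot cs h y) (hxy : B x y = 1) :
    ¬ Btwn cs h x y z := by
  rintro ⟨hz, m, a, b, hm, ha, hb, he⟩
  have hzy : m * B z y = a + 2 * b := by
    have h1 : B (m • z) y = B (a • x + b • y) y := by rw [he]
    simp only [map_add, map_smul, LinearMap.add_apply, LinearMap.smul_apply, smul_eq_mul] at h1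
    rw [h1, hxy, F.self hy]
    ring
  have hzz : m * m * 2 = 2 * a * a + 2 * b * b + 2 * a * b := by
    have h1 : B (m • z) (m • z) = B (a • x + b • y) (a • x + b • y) := by rw [he]
    simp only [map_add, map_smul, LinearMap.add_apply, LinearMap.smul_apply, smul_eq_mul] at h1
    rw [F.self hz, F.self hx, F.self hy, F.symm y x, hxy] at h1
    linarith
  obtain ⟨c, hc⟩ : ∃ c, c = B z y := ⟨_, rfl⟩
  rw [← hc] at hzy
  have hc0 : 0 < c := by
    by_contra hcon
    have := mul_nonpos_of_nonneg_of_nonpos hm.le (not_lt.1 hcon)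
    omega
  have h2 : c * c * (a * a + b * b + a * b) = (a + 2 * b) * (a + 2 * b) := by
    have h3 : (m * c) * (m * c) = (a + 2 * b) * (a + 2 * b) := by rw [hzy]
    have h4 : m * m = a * a + b * b + a * b := by linarith
    calc c * c * (a * a + b * b + a * b) = (m * c) * (m * c) := by rw [← h4]; ring
      _ = _ := h3
  have hab : 0 < a * b := mul_pos ha hb
  have haa : 0 < a * a := mul_pos ha ha
  have hbb : 0 < b * b := mul_pos hb hb
  rcases (by omega : c = 1 ∨ 2 ≤ c) with rfl | hc2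
  · nlinarith
  · have h5 : 4 ≤ c * c := by nlinarith
    nlinarith

/-- no root between two roots of which the second one is dominant -/
theorem not_btwn_dom (F : Frm cs h B) {x y z : I → ℤ} (hx : IsRoot cs h x) (hy : IsRoot cs h y) (hne : x ≠ y)
    (hxy : 0 ≤ B x y) : ¬ Btwn cs h x y z := by
  have h1 : x ≠ -y := by
    rintro rfl
    rw [map_neg, LinearMap.neg_apply, F.self hy] at hxy
    omega
  have h2 := F.sl x y hx hy hne h1
  rw [← F.cpr x y hy, abs_le] at h2
  rcases (by omega : B x y = 0 ∨ B x y = 1) with h3 | h3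
  · exact H897.T5Frame.not_btwn F hx hy h3
  · exact not_btwn_one F hx hy h3

end Frm

/-- the highest root -/
def a0 : Fin 6 → ℤ := ![1, 2, 2, 3, 2, 1]

theorem bf_a0 (b : Fin 6 → ℤ) : bf (cartanOf chevE6 6) b a0 = b 1 := by
  rw [bf_apply]
  simp only [cartan_eq, Fin.sum_univ_six, a0]
  simp
  ring

section Main

variable {W : Type*} [Group W] (hp : IsType chevE6 6 CoxeterMatrix.E₆) (cs : CoxeterSystem CoxeterMatrix.E₆ W)

include hp in
theorem isRoot_a0 : IsRoot cs hp.isCartan a0 := (isRoot_iff' hp cs a0).2 ⟨71, by norm_num, by decide +kernel⟩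

theorem dom_a0 : Dom (cartanOf chevE6 6) a0 := by
  have h1 : ∀ i : Fin 6, 0 ≤ pairing (cartanOf chevE6 6) i a0 := by decide +kernel
  exact h1

theorem pairing_a0 : ∀ i : Fin 6, pairing (cartanOf chevE6 6) i a0 = 0 ↔ i ≠ 1 := by decide +kernel

theorem mem_orth_a0 (i : Fin 6) : i ∈ orth cs hp.isCartan a0 ↔ i ≠ 1 := by
  rw [mem_orth]
  exact pairing_a0 i

theorem frm6 [Finite W] : Frm cs hp.isCartan (bf (cartanOf chevE6 6)) :=
  par6.frm cs hp.isCartan (fun i j => (n6 i j).1) (fun i j => (n6 i j).2)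

theorem one_of_RootsJ {b : Fin 6 → ℤ} (hb : b ∈ RootsJ cs hp.isCartan (orth cs hp.isCartan a0)) : b 1 = 0 :=
  hb.2 1 fun h => (mem_orth_a0 hp cs 1).1 h rfl

variable {Y : Type*} [Group Y] {p : ℕ} {T : Subgroup Y} {n : Fin 6 → Y} {X : (Fin 6 → ℤ) → Subgroup Y}

/-- **`B` normalises `X a0`.** -/
theorem B_norm [Finite W] (R : RGD cs hp.isCartan p T n X) :
    RGD.B cs hp.isCartan T X ≤ Subgroup.normalizer (X a0 : Set Y) := by
  have F := frm6 hp cs
  have h0 := isRoot_a0 hp cs
  refine sup_le (fun t ht => ?_) (RGD.Sup_le fun x hx => ?_)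
  · rw [mem_normalizer_iff_cj]
    exact R.tor _ h0 t ht
  · by_cases hxa : x = a0
    · rw [hxa]
      exact Subgroup.le_normalizer
    · have h1 : 0 ≤ bf (cartanOf chevE6 6) x a0 := by
        rw [bf_a0]
        exact hx.2 1
      have h2 : x ≠ -a0 := by
        rintro rfl
        have := hx.2 0
        simp [a0] at this
      intro a ha
      refine Fin.mem_normalizer_of_comm fun b hb => ?_
      have h3 := R.comm _ _ hx.1 h0 hxa h2 a ha b hb
      have h4 : btw cs hp.isCartan X x a0 = ⊥ := by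
        rw [Reps.btw, eq_bot_iff]
        exact iSup_le fun z => absurd z.2 (not_btwn_dom F hx.1 h0 hxa h1)
      rwa [h4, Subgroup.mem_bot, commutatorElement_eq_one_iff_mul_comm] at h3

/-- **Elements normalising `X a0` and `X (-a0)`.** -/
theorem mem_LJ [Finite W] (R : RGD cs hp.isCartan p T n X) {c : Y} (hc : c ∈ GG cs hp.isCartan T X)
    (h1 : c ∈ Subgroup.normalizer (X a0 : Set Y)) (h2 : c ∈ Subgroup.normalizer (X (-a0) : Set Y)) :
    c ∈ LJ cs hp.isCartan T X (orth cs hp.isCartan a0) :=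
  Fin.mem_LJ R (isRoot_a0 hp cs) dom_a0 (B_norm hp cs R) hc h1 h2

end Main

end Cfsg.Agent.H807.WfE6.Geo
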