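import Mathlib
import Cfsg.Agent.H129.TorusChar

/-!
# Characters of order three of a lattice

`exists_theta` : a multiplicative function with values in the cube roots of unity is `x ↦ ω ^ θ(x)`.
-/

set_option autoImplicit false
set_option linter.unusedSectionVars false

namespace Cfsg.Agent.H807.WfE6.Theta

open Cfsg.Agent.ChevalleyStructure.CoxeterGeom Cfsg.Agent.Tits.Roots Cfsg.Agent.Tits.Core Cfsg.Agent.H129.TorusChar

variable {k : Type*} [Field k] {ω : k}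

theorem pow_val_add (hω : ω ^ 3 = 1) (a b : ZMod 3) : ω ^ (a + b).val = ω ^ a.val * ω ^ b.val := by
  rw [← pow_add, ZMod.val_add]
  conv_rhs => rw [← Nat.div_add_mod (a.val + b.val) 3, pow_add, pow_mul, hω, one_pow, one_mul]

theorem pow_val_eq_one (hω : ω ^ 3 = 1) (hω1 : ω ≠ 1) {a : ZMod 3} (h : ω ^ a.val = 1) : a = 0 := by
  have h1 : ∀ a : ZMod 3, a = 0 ∨ a.val = 1 ∨ a.val = 2 := by decide
  rcases h1 a with h2 | h2 | h2
  · exact h2
  · rw [h2, pow_one] at h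
    exact absurd h hω1
  · rw [h2] at h
    have h3 : ω ^ 3 = ω ^ 2 * ω := by ring
    rw [hω, h, one_mul] at h3
    exact absurd h3.symm hω1

theorem pow_val_inj (hω : ω ^ 3 = 1) (hω1 : ω ≠ 1) {a b : ZMod 3} (h : ω ^ a.val = ω ^ b.val) : a = b := by
  have h1 : ω ^ (a + -b).val = 1 := by
    rw [pow_val_add hω, h, ← pow_val_add hω, add_neg_cancel, ZMod.val_zero, pow_zero]
  have h2 := pow_val_eq_one hω hω1 h1
  rwa [add_neg_eq_zero] at h2

theorem pow_val_mul (hω : ω ^ 3 = 1) (m : ℕ) (a : ZMod 3) : ω ^ ((m : ZMod 3) * a).val = (ω ^ a.val) ^ m := by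
  induction m with
  | zero => rw [Nat.cast_zero, zero_mul, ZMod.val_zero, pow_zero, pow_zero]
  | succ m ih => rw [Nat.cast_succ, add_mul, one_mul, pow_val_add hω, ih, pow_succ]

theorem exists_val (hω : ω ^ 3 = 1) (hω1 : ω ≠ 1) {c : k} (hc : c ^ 3 = 1) : ∃ a : ZMod 3, c = ω ^ a.val := by
  have h0 : 1 + ω + ω ^ 2 = 0 := by
    have h1 : (ω - 1) * (1 + ω + ω ^ 2) = 0 := by
      have : (ω - 1) * (1 + ω + ω ^ 2) = ω ^ 3 - 1 := by ring
      rw [this, hω, sub_self]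
    exact (mul_eq_zero.1 h1).resolve_left (sub_ne_zero.2 hω1)
  have h1 : (c - 1) * ((c - ω) * (c - ω ^ 2)) = 0 := by
    have e : (c - 1) * ((c - ω) * (c - ω ^ 2)) =
        c ^ 3 - (1 + ω + ω ^ 2) * c ^ 2 + (ω + ω ^ 2 + ω ^ 3) * c - ω ^ 3 := by ring
    have e2 : ω + ω ^ 2 + ω ^ 3 = 0 := by rw [hω]; linear_combination h0
    rw [e, h0, e2, hc, hω]
    ring
  rcases mul_eq_zero.1 h1 with h | h
  · exact ⟨0, by rw [ZMod.val_zero, pow_zero]; exact sub_eq_zero.1 h⟩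
  · rcases mul_eq_zero.1 h with h | h
    · exact ⟨1, by rw [show (1 : ZMod 3).val = 1 from rfl, pow_one]; exact sub_eq_zero.1 h⟩
    · exact ⟨2, by rw [show (2 : ZMod 3).val = 2 from rfl]; exact sub_eq_zero.1 h⟩

/-- **The exponent.** -/
theorem exists_theta {l : ℕ} (hω : ω ^ 3 = 1) (hω1 : ω ≠ 1) {φ : (Fin l → ℤ) → k} (hφ : IsMC φ)
    (h3 : ∀ i, φ (sr i) ^ 3 = 1) : ∃ θ : (Fin l → ℤ) →+ ZMod 3, ∀ x, φ x = ω ^ (θ x).val := by
  have h1 : ∀ i : Fin l, ∃ a : ZMod 3, φ (sr i) = ω ^ a.val := fun i => exists_val hω hω1 (h3 i)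
  choose n hn using h1
  let θ : (Fin l → ℤ) →+ ZMod 3 := AddMonoidHom.mk' (fun x => ∑ i, (x i : ZMod 3) * n i) (by
    intro x y
    rw [← Finset.sum_add_distrib]
    refine Finset.sum_congr rfl fun i _ => ?_
    rw [Pi.add_apply, Int.cast_add, add_mul])
  refine ⟨θ, ?_⟩
  have hψ : IsMC (fun x : Fin l → ℤ => ω ^ (θ x).val) := by
    constructor
    · show ω ^ (θ 0).val = 1
      rw [map_zero, ZMod.val_zero, pow_zero]
    · intro x y
      show ω ^ (θ (x + y)).val = _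
      rw [map_add, pow_val_add hω]
  intro x
  refine hφ.ext hψ (fun i => ?_) x
  show φ (sr i) = ω ^ (θ (sr i)).val
  have h4 : θ (sr i) = n i := by
    show ∑ j, ((sr i : Fin l → ℤ) j : ZMod 3) * n j = n i
    rw [Finset.sum_eq_single i]
    · rw [sr_self, Int.cast_one, one_mul]
    · intro j _ hj
      rw [sr_ne hj, Int.cast_zero, zero_mul]
    · intro hi
      exact absurd (Finset.mem_univ i) hi
  rw [h4]
  exact hn i

end Cfsg.Agent.H807.WfE6.Theta
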