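import Mathlib
import Cfsg.Agent.H807.WfE6.Inner
import Cfsg.Agent.H522.FldSixLib
import Cfsg.Agent.S1054

/-!
# `²E₆(q)`, `q` prime to `3` : the reduction of the row `WfRow 3` (S3826)

* `red_tw` : every automorphism of order three of `²E₆(q)` has an inner conjugate which preserves
  `²E₆(q) ∩ A0`, `A0` the `SL₂` of the highest root of `E₆(k)`.
-/

set_option autoImplicit false
set_option linter.unusedSectionVars false

namespace Cfsg.Agent.H807.WfE6.TwSix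

open CoxeterSystem Cfsg Cfsg.Lie Cfsg.Lie.ChevalleyDatum
open Cfsg.Agent.ChevalleyStructure Cfsg.Agent.ChevalleyStructure.Elts Cfsg.Agent.ChevalleyStructure.CoxeterGeom
  Cfsg.Agent.ChevalleyStructure.CoxeterGeomTypes Cfsg.Agent.ChevalleyStructure.NPerm
open Cfsg.Agent.Nodes.RGDChev Cfsg.Agent.Nodes.Coroot Cfsg.Agent.KFacts.RgdChevCoord Cfsg.Agent.KFacts.RgdField
open Cfsg.Agent.BpExc Cfsg.Agent.BpExc.TorCent Cfsg.Agent.BpExc.TorChev Cfsg.Agent.BpExc.Tow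
  Cfsg.Agent.BpExc.TowChev Cfsg.Agent.BpExc.Fr Cfsg.Agent.BpExc.LangFr
open Cfsg.Agent.BpExc.FamUntw Cfsg.Agent.BpExc.FamField
open Cfsg.Agent.H522.FamTw.Frame
open Cfsg.Agent.BpExc.FamTw.Six (em em_injective coe_em)
open Cfsg.Agent.H897.T5Lat Cfsg.Agent.H807.WfE6.Comb Cfsg.Agent.H807.WfE6.Geo Cfsg.Agent.H807.WfE6.Inner
open Cfsg.Agent.H469.Exc (KK locFin)

theorem center_bot {G : Type} [Group G] (h : IsSimpleGroup G ∧ ¬ IsMulCommutative G) : Subgroup.center G = ⊥ := by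
  have := h.1
  refine KFacts.RgdLieCharP.center_eq_bot ?_
  by_contra hcon
  push Not at hcon
  exact h.2 ⟨⟨hcon⟩⟩

section

variable {K : Type} [Field K] [Fintype K] {q : ℕ} {r : ℕ} [Fact r.Prime] [CharP K r]

theorem coe_sig6 (n : ℕ) (y : ↥(chevE6.group (KK r))) :
    ((sig6 (KK r) r n y : ↥(chevE6.group (KK r))) : GL chevE6.Idx (KK r)) =
      TwE6Basic.sg (iterateFrobenius (KK r) r n) (y : GL chevE6.Idx (KK r)) := by
  show ((Cfsg.Agent.BpExc.FamTw.Gr.gr inListE6 GraphSymm.symmE6 (phi chevE6 (KK r) r n y) : ↥(chevE6.group (KK r))) :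
    GL chevE6.Idx (KK r)) = _
  rw [Cfsg.Agent.BpExc.FamTw.Gr.coe_gr]
  show _ = GraphSymm.symmE6.P (KK r) * Matrix.GeneralLinearGroup.map (iterateFrobenius (KK r) r n)
    (y : GL chevE6.Idx (KK r)) * (GraphSymm.symmE6.P (KK r))⁻¹
  congr 2
  apply Units.ext
  rw [phi_coe]
  rfl

/-- **The reduction for `²E₆(q)`.** -/
theorem red_tw (hq : IsPrimePow q) (hK : Fintype.card K = q ^ 2) (f : K →+* KK r) {n : ℕ} (hn0 : 0 < n)
    (hn : q = r ^ n) (h3r : 3 ≠ r) (c : MulAut ↥(twistedE6 K q)) (hc : orderOf c = 3) :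
    ∃ g : ↥(twistedE6 K q), ∀ s, em q f s ∈ A0 (KK r) →
      em q f ((MulAut.conj g * c * (MulAut.conj g)⁻¹) s) ∈ A0 (KK r) := by
  have h3p : Fact (Nat.Prime 3) := ⟨Nat.prime_three⟩
  have hp := BpExc.RowsUntw.e6T
  let cs : CoxeterSystem CoxeterMatrix.E₆ CoxeterMatrix.E₆.Group := CoxeterMatrix.E₆.toCoxeterSystem
  have hW : Finite CoxeterMatrix.E₆.Group := finite_W hp cs
  have := Fintype.ofFinite CoxeterMatrix.E₆.Group
  have hk : LocFin (KK r) := locFin r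
  have hZ : Subgroup.center ↥(chevE6.group (KK r)) = ⊥ := center_bot (S1054.result (F := KK r) chevE6 (by simp))
  obtain ⟨φ, hφ, hqq⟩ := TwE6Basic.exists_frob hq hK
  have hφk : ∀ t : KK r, iterateFrobenius (KK r) r n t = t ^ q := fun t => by
    rw [iterateFrobenius_def, hn]
  have ha0 : permE rho6 a0 = a0 := by
    funext i
    revert i
    decide
  have ha0' : permE rho6 (-a0) = -a0 := by rw [map_neg, ha0]
  have hr0 := isRoot_a0 hp cs
  refine Abs.exists_pres (Y := ↥(chevE6.group (KK r))) (ι := em q f) (σ := sig6 (KK r) r n)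
    (A := A0 (KK r)) (T := TT chevE6 (KK r)) (em_injective f)
    (fun s => H522.FamTw.Six.sig6_em f r hφ hqq hn s)
    (fun t ht => TT_norm hp cs hk (r := r) ht) (fun y hy => ?_) hZ Nat.prime_three (fun x hσx hx3 => ?_) (fun c hc => ?_) c hc
  · have hy' : sig6 (KK r) r n y⁻¹ = y⁻¹ := by rw [map_inv, hy]
    obtain ⟨g, hg, t, ht, e⟩ := Cfsg.Agent.BpExc.EmbInst.twE6_split (f := f) hq hK hφk y⁻¹.2
      (by rw [← coe_sig6, hy'])
    obtain ⟨t', ht'⟩ : ∃ t' : ↥(chevE6.group (KK r)), t' = ⟨t, diagonal_le_group hp.inList _ ht⟩ := ⟨_, rfl⟩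
    have htT : t' ∈ TT chevE6 (KK r) := by rw [ht']; exact ht
    have e' : y⁻¹ = em q f ⟨g, hg⟩ * t' := by rw [ht']; exact Subtype.ext e
    refine ⟨⟨g, hg⟩⁻¹, t'⁻¹, inv_mem htT, ?_⟩
    rw [map_inv, ← mul_inv_rev, ← e', inv_inv]
  · obtain ⟨z, hz⟩ := TorAll.exists_toral' hp r Nat.prime_three h3r (y := x) hx3
    exact inner hp cs hk hn0 (isFrob_sig6 r n) (fr_sig6 hk r hp cs n) ha0 h3r hσx hx3 hz
  · have hc3 : c ^ 3 = 1 := by rw [← hc, pow_orderOf_eq_one]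
    rcases H522.FamTw.Six.cases f r hφ hqq (fun a => IsAlgClosed.exists_pow_nat_eq (f a) (by norm_num)) hn
      hq.one_lt hK Nat.prime_three (by norm_num) hc3 with h | ⟨i, m, hi, hm0, hmn, y, hy, h⟩
    · exact Or.inl h
    · have Fm := fr_sig6 hk r hp cs m
      refine Or.inr ⟨i, sig6 (KK r) r m, y, hi, by rw [sig6_pow r (by norm_num), hmn], fun u hu => ?_, fun y => ?_, hy, h⟩
      · have h1 : (A0 (KK r)).map (sig6 (KK r) r m).toMonoidHom = A0 (KK r) := by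
          unfold A0
          rw [Subgroup.map_sup, Fm.map_eq hr0, Fm.map_eq hr0.neg, ha0, ha0']
        rw [← h1]
        exact ⟨u, hu, rfl⟩
      · obtain ⟨z, hz⟩ := lang_all hp cs hm0 (isFrob_sig6 r m) Fm 1 y
        refine ⟨z, ?_⟩
        rw [map_one, one_mul] at hz
        exact hz

end

end Cfsg.Agent.H807.WfE6.TwSix
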