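import Mathlib
import Cfsg.Agent.H807.WfE6.Inner
import Cfsg.Agent.H486.NB.Rows
import Cfsg.Agent.H378.TorFin
import Cfsg.Agent.SignalizersComponents.QsBasic
import Cfsg.Agent.S1054

/-!
# `E₆(q)`, `q` prime to `3` : the row `WfRow 3` (S3826)
-/

set_option autoImplicit false
set_option linter.unusedSectionVars false

namespace Cfsg.Agent.H807.WfE6.ESix

open CoxeterSystem Cfsg Cfsg.Lie Cfsg.Lie.ChevalleyDatum
open Cfsg.Agent.ChevalleyStructure Cfsg.Agent.ChevalleyStructure.Elts Cfsg.Agent.ChevalleyStructure.CoxeterGeom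
  Cfsg.Agent.ChevalleyStructure.CoxeterGeomTypes Cfsg.Agent.ChevalleyStructure.NPerm
open Cfsg.Agent.Tits.Roots Cfsg.Agent.Tits.Core Cfsg.Agent.Nodes Cfsg.Agent.Nodes.Reps Cfsg.Agent.Nodes.BNOf
  Cfsg.Agent.Nodes.RGDChev Cfsg.Agent.Nodes.Bruhat Cfsg.Agent.Nodes.StabComb Cfsg.Agent.Nodes.SubComb
  Cfsg.Agent.Nodes.Coroot
open Cfsg.Agent.KFacts.RgdField Cfsg.Agent.KFacts.RgdChevCoord Cfsg.Agent.GenExc
open Cfsg.Agent.BpExc Cfsg.Agent.BpExc.TorCent Cfsg.Agent.BpExc.TorChev Cfsg.Agent.BpExc.Tow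
  Cfsg.Agent.BpExc.TowChev Cfsg.Agent.BpExc.Fr Cfsg.Agent.BpExc.LangFr Cfsg.Agent.GpExc.Field
open Cfsg.Agent.BpExc.FamUntw Cfsg.Agent.BpExc.FamInst Cfsg.Agent.BpExc.FamField Cfsg.Agent.BpExc.FamExt
open Cfsg.Agent.H897.T5Lat Cfsg.Agent.H897.T5UntwRow Cfsg.Agent.H807.WfE6.Comb Cfsg.Agent.H807.WfE6.Geo
  Cfsg.Agent.H807.WfE6.Inner
open Cfsg.Agent.H533.T5 Cfsg.Agent.H533.Wf Cfsg.Agent.H84.Wf
open Cfsg.Agent.H469.Exc (KK locFin)
open Cfsg.Agent.GpExc.Chev (eE6)
open scoped commutatorElement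

universe u

/-- quasisimple subgroups are `QS` -/
theorem qs_of_quasisimple {G : Type*} [Group G] {L : Subgroup G} (h : IsQuasisimple ↥L) : QS L := by
  refine QSG.qs ⟨h.1.commutator_eq_top, ?_, fun N hN => ?_⟩
  · have := h.2.toNontrivial
    exact (QuotientGroup.mk'_surjective (Subgroup.center ↥L)).nontrivial
  · by_cases h1 : N = ⊤
    · exact Or.inl h1
    · exact Or.inr (SignalizersComponents.QsBasic.normal_le_center_of_ne_top h N h1)

theorem center_bot {G : Type} [Group G] (h : IsSimpleGroup G ∧ ¬ IsMulCommutative G) : Subgroup.center G = ⊥ := by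
  have := h.1
  refine KFacts.RgdLieCharP.center_eq_bot ?_
  by_contra hcon
  push Not at hcon
  exact h.2 ⟨⟨hcon⟩⟩

/-! ### the Levi subgroup -/

section Levi

variable {F : Type} [Field F] [Fintype F]

theorem mem_range_eE6 : ∀ i : Fin 6, i ≠ 1 ↔ ∃ j, eE6 j = i := by decide

theorem lace : ∀ j, ∃ j', cartanOf chevE6 6 (eE6 j) (eE6 j') = -1 ∧ cartanOf chevE6 6 (eE6 j') (eE6 j) = -1 := by
  decide +kernel

/-- perfectness -/
theorem perf (h3 : Fintype.card F ≠ 3) (hp : IsType chevE6 6 CoxeterMatrix.E₆)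
    (cs : CoxeterSystem CoxeterMatrix.E₆ CoxeterMatrix.E₆.Group) : ∀ x ∈ LR cs hp.isCartan eE6, XX chevE6 6 F x ≤
      ⁅HL cs hp.isCartan (XX chevE6 6 F) eE6, HL cs hp.isCartan (XX chevE6 6 F) eE6⁆ := by
  by_cases h4 : 4 ≤ Fintype.card F
  · obtain ⟨c, hc, hc2⟩ := H486.NB.Exc.exists_sq_ne (F := F) h4
    exact H486.NB.Exc.perf_tor hp cs hc hc2 eE6
  · have h1 : 1 < Fintype.card F := Fintype.one_lt_card
    have h2 := H486.NB.Rows.two_eq_zero_of_card (F := F) (by omega)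
    have : Finite CoxeterMatrix.E₆.Group := finite_W hp cs
    have hchF : CharP F 2 := CharTwo.of_one_ne_zero_of_two_eq_zero one_ne_zero h2
    have hsys := Cfsg.Agent.KFacts.ChevTwoInst.sys (K := F) hp Cfsg.Agent.KFacts.ChevTwoInst.twoOK_E6 cs
    exact GpExc.Perf.perf_lace eE6 hsys lace

theorem quasisimple (h3 : Fintype.card F ≠ 3) (hp : IsType chevE6 6 CoxeterMatrix.E₆)
    (cs : CoxeterSystem CoxeterMatrix.E₆ CoxeterMatrix.E₆.Group) (r : ℕ) [Fact r.Prime] [CharP F r] :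
    IsQuasisimple ↥(HL cs hp.isCartan (XX chevE6 6 F) eE6) := by
  have : Finite CoxeterMatrix.E₆.Group := finite_W hp cs
  exact isQuasisimple_HL eE6 (rgd (K := F) hp cs r) (fun j => GenExc.Chev.nc_mem hp F cs eE6 j)
    (H486.NB.Rows.tdE6.conn hp) (GenExc.Chev.diag_comm hp F) (perf h3 hp cs)

end Levi

theorem orth_eq (hp : IsType chevE6 6 CoxeterMatrix.E₆) {W : Type*} [Group W]
    (cs : CoxeterSystem CoxeterMatrix.E₆ W) : orth cs hp.isCartan a0 = Set.range eE6 := by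
  ext i
  rw [mem_orth_a0 hp cs, mem_range_eE6]
  rfl

theorem mem_LR_one (hp : IsType chevE6 6 CoxeterMatrix.E₆) {W : Type*} [Group W]
    (cs : CoxeterSystem CoxeterMatrix.E₆ W) {b : Fin 6 → ℤ} (hb : b ∈ LR cs hp.isCartan eE6) : b 1 = 0 :=
  hb.2 1 fun j hj => (mem_range_eE6 1).2 ⟨j, hj⟩ rfl

section Emb

variable {F k : Type} [Field F] [Field k] (f : F →+* k) (hp : IsType chevE6 6 CoxeterMatrix.E₆) {W : Type*} [Group W]
  (cs : CoxeterSystem CoxeterMatrix.E₆ W)

theorem emb_XX {b : Fin 6 → ℤ} (hb : IsRoot cs hp.isCartan b) {y : ↥(chevE6.group F)} (hy : y ∈ XX chevE6 6 F b) :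
    emb hp.inList f y ∈ XX chevE6 6 k b := by
  obtain ⟨s, hs, rfl⟩ := (isRoot_iff hp cs b).1 hb
  obtain ⟨t, rfl⟩ := (BpExc.HX.mem_XX_xc hp hs).1 hy
  rw [emb_xc hp f hs]
  exact (BpExc.HX.mem_XX_xc hp hs).2 ⟨f t, rfl⟩

end Emb

/-- **The row `E₆(q)`.** -/
theorem wf_e6 {F : Type} [Field F] [Fintype F] (h3 : ¬ 3 ∣ Fintype.card F) : WfRow.{u, 0} 3 ↥(chevE6.group F) := by
  have h3p : Fact (Nat.Prime 3) := ⟨Nat.prime_three⟩
  have hs := fun (k : Type) [Field k] => S1054.result (F := k) chevE6 (by simp)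
  have hsF : IsSimpleGroup ↥(chevE6.group F) := (hs F).1
  have hp := BpExc.RowsUntw.e6T
  let cs : CoxeterSystem CoxeterMatrix.E₆ CoxeterMatrix.E₆.Group := CoxeterMatrix.E₆.toCoxeterSystem
  have hW : Finite CoxeterMatrix.E₆.Group := finite_W hp cs
  have := Fintype.ofFinite CoxeterMatrix.E₆.Group
  obtain ⟨r, hcr⟩ := CharP.exists F
  have hr : Fact r.Prime := ⟨CharP.char_is_prime F r⟩
  obtain ⟨n, hn0, hn⟩ := exists_card (F := F) r
  have hn' : Fintype.card F = r ^ n := by rw [← Nat.card_eq_fintype_card, hn]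
  have h3r : 3 ≠ r := by
    rintro rfl
    exact h3 (by rw [hn']; exact dvd_pow_self _ hn0.ne')
  have hq3 : Fintype.card F ≠ 3 := fun h => h3 (by rw [h])
  obtain ⟨f⟩ := RowsUntw.exists_emb r F
  have hk : LocFin (KK r) := locFin r
  have hZ : Subgroup.center ↥(chevE6.group (KK r)) = ⊥ := center_bot (hs (KK r))
  have hZF : Subgroup.center ↥(chevE6.group F) = ⊥ := center_bot (hs F)
  have R := rgd (K := F) hp cs r
  have hG1 : RGD.Sup (XX chevE6 6 F) {x | IsRoot cs hp.isCartan x} = ⊤ := G1_eq_top hp cs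
  have hconn := KFacts.RgdLieCharP.conn_of_simple R hG1 hZF
  have hr0 := isRoot_a0 hp cs
  have hFr := frm6 hp cs
  obtain ⟨w, hw⟩ : ∃ w, rep cs hp.isCartan w a0 = sr 0 := by
    obtain ⟨w, hw⟩ := par6.trans (cs := cs) (h := hp.isCartan) (isRoot_sr cs hp.isCartan 0)
    obtain ⟨w', hw'⟩ := par6.trans (cs := cs) (h := hp.isCartan) hr0
    exact ⟨w⁻¹ * w', by rw [rep_mul_apply, hw', ← hw, rep_inv_apply]⟩
  have hsr0 : (sr 0 : Fin 6 → ℤ) ∈ LR cs hp.isCartan eE6 := sr_mem_LR (cs := cs) (h := hp.isCartan) eE6 0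
  have h01 : form cs hp.isCartan (sr 1) (sr 0) = 0 := by
    rw [← cpr_zero_iff cs hp.isCartan _ (isRoot_sr cs hp.isCartan 0), ← hFr.cpr _ _ (isRoot_sr cs hp.isCartan 0), bf_apply]
    decide +kernel
  -- the Levi subgroup commutes with the root `SL₂`
  have hcomm : HL cs hp.isCartan (XX chevE6 6 F) eE6 ≤
      (Subgroup.centralizer (A0 (KK r) : Set ↥(chevE6.group (KK r)))).comap (emb hp.inList f) := by
    refine RGD.Sup_le fun b hb y hy => ?_
    have h1 := emb_XX f hp cs hb.1 hy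
    have h2 : bf (cartanOf chevE6 6) b a0 = 0 := by rw [bf_a0, mem_LR_one hp cs hb]
    have h3 : bf (cartanOf chevE6 6) b (-a0) = 0 := by rw [map_neg, h2, neg_zero]
    rw [Subgroup.mem_comap, Subgroup.mem_centralizer_iff]
    intro u hu
    have h4 : A0 (KK r) ≤ Subgroup.centralizer {emb hp.inList f y} := by
      refine sup_le (fun v hv => ?_) (fun v hv => ?_)
      · rw [Subgroup.mem_centralizer_singleton_iff]
        exact (H897.T5Frame.comm_XX hp cs hk r hFr hb.1 hr0 h2 h1 hv).symm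
      · rw [Subgroup.mem_centralizer_singleton_iff]
        exact (H897.T5Frame.comm_XX hp cs hk r hFr hb.1 hr0.neg h3 h1 hv).symm
    exact Subgroup.mem_centralizer_singleton_iff.1 (h4 hu)
  refine Fin.wf_rgd (cs := cs) (f := eE6) R (TorChev.GG_top (K := F) hp cs) (GenExc.Chev.diag_comm hp F) hr0 dom_a0
    (B_norm hp cs R) (orth_eq hp cs) (qs_of_quasisimple (quasisimple hq3 hp cs r)) ?_
    (R' := (A0 (KK r)).comap (emb hp.inList f)) ?_ ?_ (w := w) ?_ ?_ ?_
  · -- `HL ≠ ⊤`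
    intro htop
    apply X_ne_bot R hr0
    rw [eq_bot_iff, ← hZF]
    intro y hy
    rw [Subgroup.mem_center_iff]
    intro g
    have hg : g ∈ HL cs hp.isCartan (XX chevE6 6 F) eE6 := by rw [htop]; exact Subgroup.mem_top g
    have h1 := hcomm hg
    rw [Subgroup.mem_comap, Subgroup.mem_centralizer_iff] at h1
    apply emb_injective hp.inList f
    rw [map_mul, map_mul]
    exact (h1 _ (Subgroup.mem_sup_left (emb_XX f hp cs hr0 hy))).symm
  · -- `R₀ ≤ R'`
    exact sup_le (fun y hy => Subgroup.mem_sup_left (emb_XX f hp cs hr0 hy))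
      (fun y hy => Subgroup.mem_sup_right (emb_XX f hp cs hr0.neg hy))
  · intro l hl x hx
    have h1 := hcomm hl
    rw [Subgroup.mem_comap, Subgroup.mem_centralizer_iff] at h1
    apply emb_injective hp.inList f
    rw [map_mul, map_mul]
    exact (h1 _ hx).symm
  · rw [hw]; exact hsr0
  · -- generation
    intro c h1 h2
    rw [hw] at h2
    have h4 : RGD.Sup (XX chevE6 6 F) {x | IsRoot cs hp.isCartan x} ≤
        (c.toMonoidHom).eqLocus (MonoidHom.id _) := by
      refine KFacts.RgdRigid.Sup_le_of_simple R (fun i => ?_) (fun i => ?_)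
      · by_cases hi : i = 1
        · intro y hy
          rw [hi] at hy
          exact h2 _ (isRoot_sr cs hp.isCartan 1) h01 y hy
        · obtain ⟨j, hj⟩ := (mem_range_eE6 i).1 hi
          intro y hy
          rw [← hj] at hy
          exact h1 _ (sr_mem_LR (cs := cs) (h := hp.isCartan) eE6 j) y hy
      · by_cases hi : i = 1
        · intro y hy
          rw [hi] at hy
          exact h2 _ (isRoot_sr cs hp.isCartan 1).neg (by rw [form_neg_left, h01, neg_zero]) y hy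
        · obtain ⟨j, hj⟩ := (mem_range_eE6 i).1 hi
          intro y hy
          rw [← hj] at hy
          exact h1 _ (LR_neg eE6 (sr_mem_LR (cs := cs) (h := hp.isCartan) eE6 j)) y hy
    rw [hG1, top_le_iff] at h4
    ext x
    have h5 : x ∈ (c.toMonoidHom).eqLocus (MonoidHom.id _) := by rw [h4]; exact Subgroup.mem_top x
    have h6 : c x = x := h5
    rw [h6]; rfl
  · -- the reduction
    intro c hc
    have hroots : ∀ c : F, c ≠ 0 → ∃ b : KK r, b ^ 3 = f c := fun c _ =>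
      IsAlgClosed.exists_pow_nat_eq (f c) (by norm_num)
    refine Abs.exists_pres (Y := ↥(chevE6.group (KK r))) (ι := emb hp.inList f) (σ := phi chevE6 (KK r) r n)
      (A := A0 (KK r)) (T := TT chevE6 (KK r)) (emb_injective hp.inList f) (fun s => phi_emb hp r f hn s)
      (fun t ht => TT_norm hp cs hk (r := r) ht) (fun y hy => ?_) hZ Nat.prime_three (fun x hσx hx3 => ?_) (fun c hc => ?_) c hc
    · obtain ⟨a, ⟨g, rfl⟩, t, ht, -, h1⟩ := Cfsg.Agent.H378.TorFin.exists_split hp f r hn (y := y⁻¹) (by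
        rw [map_inv, hy])
      refine ⟨g⁻¹, t⁻¹, inv_mem ht, ?_⟩
      rw [map_inv, ← mul_inv_rev, ← h1, inv_inv]
    · obtain ⟨z, hz⟩ := TorAll.exists_toral' hp r Nat.prime_three h3r (y := x) hx3
      exact inner hp cs hk hn0 (phi_isFrob r n) (phi_fr hp cs r hk n) rfl h3r hσx hx3 hz
    · have hc3 : c ^ 3 = 1 := by rw [← hc, pow_orderOf_eq_one]
      rcases BpExc.FamUntw.cases hp hk r f inv_E6 three_ne_zero hroots ⟨0⟩ hconn hZ Nat.prime_three
        (Cfsg.Agent.CpAut.RgdUntw.symTwo_E6.eq_one Nat.prime_three (by norm_num)) hn hc3 with h | ⟨i, m, hi, hm0, hmn, y, hy, h⟩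
      · exact Or.inl h
      · have Fm := phi_fr hp cs r hk m
        refine Or.inr ⟨i, phi chevE6 (KK r) r m, y, hi, by rw [phi_pow, hmn], fun u hu => ?_, fun y => ?_, hy, h⟩
        · have h1 : (A0 (KK r)).map (phi chevE6 (KK r) r m).toMonoidHom = A0 (KK r) := by
            unfold A0
            rw [Subgroup.map_sup, Fm.map_eq hr0, Fm.map_eq hr0.neg]
            rfl
          rw [← h1]
          exact ⟨u, hu, rfl⟩
        · obtain ⟨z, hz⟩ := lang_all hp cs hm0 (phi_isFrob r m) Fm 1 y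
          refine ⟨z, ?_⟩
          rw [map_one, one_mul] at hz
          exact hz

end Cfsg.Agent.H807.WfE6.ESix
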