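import Mathlib
import Cfsg.Agent.H71.Wf.Tools

/-!
# Abstract part of the rows `E₆(q)`, `²E₆(q)` of S3826

* `exists_pres` : every automorphism of order `p` of `S ≤ Y^σ` has an `S`-conjugate preserving `ι⁻¹(A)`;
* `wf_core` : `R` is preserved by (conjugates of) all automorphisms of order `p`, `L` is the commutator subgroup of
  `C_S(R)`, and two conjugates of `L` have a trivial common centraliser: `WfRow p S`.
-/

set_option autoImplicit false
set_option linter.unusedSectionVars false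

namespace Cfsg.Agent.H807.WfE6.Abs

universe u v w

open Subgroup Cfsg Cfsg.Agent.H533.T5 Cfsg.Agent.H533.Wf
open scoped commutatorElement

section Pres

variable {Y S : Type*} [Group Y] [Group S] {ι : S →* Y} {σ : MulAut Y} {A T : Subgroup Y}

/-- **Every automorphism of order `p` has a conjugate preserving `ι⁻¹ A`.** -/
theorem exists_pres (hinj : Function.Injective ι) (hfix : ∀ s, σ (ι s) = ι s)
    (hT : ∀ t ∈ T, ∀ y ∈ A, t * y * t⁻¹ ∈ A)
    (hsplit : ∀ y, σ y = y → ∃ g : S, ∃ t ∈ T, y = t * ι g) (hZ : center Y = ⊥) {p : ℕ} (hp : p.Prime)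
    (hinner : ∀ x, σ x = x → x ^ p = 1 → ∃ y, σ y = y ∧ ∀ u ∈ A, (y * x * y⁻¹) * u * (y * x * y⁻¹)⁻¹ ∈ A)
    (hcases : ∀ c : MulAut S, orderOf c = p →
      (∃ y, y ^ p = 1 ∧ σ y = y ∧ ∀ s, ι (c s) = y * ι s * y⁻¹) ∨
      ∃ (i : ℕ) (φ : MulAut Y) (y : Y), i.Coprime p ∧ φ ^ p = σ ∧ (∀ u ∈ A, φ u ∈ A) ∧ (∀ y, ∃ z, y = z⁻¹ * φ z) ∧
        (MulAut.conj y * φ) ^ p = σ ∧ ∀ s, ι ((c ^ i) s) = (MulAut.conj y * φ) (ι s))
    (c : MulAut S) (hc : orderOf c = p) :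
    ∃ g : S, ∀ s, ι s ∈ A → ι ((MulAut.conj g * c * (MulAut.conj g)⁻¹) s) ∈ A := by
  have hcp : c ^ p = 1 := by rw [← hc, pow_orderOf_eq_one]
  rcases hcases c hc with ⟨x, hxp, hσx, hx⟩ | ⟨i, φ, y, hi, hpow, hφA, hlang, hyp, hy⟩
  · -- inner-diagonal
    obtain ⟨y, hσy, h1⟩ := hinner x hσx hxp
    obtain ⟨g, t, ht, hyt⟩ := hsplit y hσy
    refine ⟨g, fun s hs => ?_⟩
    have e1 : (MulAut.conj g)⁻¹ s = g⁻¹ * s * g := by
      rw [← map_inv, MulAut.conj_apply, inv_inv]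
    have e2 : ι ((MulAut.conj g * c * (MulAut.conj g)⁻¹) s) =
        t⁻¹ * ((y * x * y⁻¹) * (t * ι s * t⁻¹) * (y * x * y⁻¹)⁻¹) * t⁻¹⁻¹ := by
      show ι (g * c ((MulAut.conj g)⁻¹ s) * g⁻¹) = _
      rw [e1, map_mul, map_mul, hx, map_mul, map_mul, map_inv, hyt]
      group
    rw [e2]
    exact hT _ (inv_mem ht) _ (h1 _ (hT t ht _ hs))
  · -- field type
    obtain ⟨z, hz⟩ := hlang y
    have hconj : MulAut.conj y * φ = (MulAut.conj z)⁻¹ * φ * MulAut.conj z := by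
      apply MulEquiv.ext
      intro u
      have e1 : (MulAut.conj z)⁻¹ = MulAut.conj z⁻¹ := (map_inv MulAut.conj z).symm
      rw [e1]
      show y * φ u * y⁻¹ = z⁻¹ * φ (z * u * z⁻¹) * z⁻¹⁻¹
      rw [hz, map_mul, map_mul, map_inv]
      group
    have hσz : σ z = z := by
      have h1 : (MulAut.conj z)⁻¹ * σ * MulAut.conj z = σ := by
        have h2 : ((MulAut.conj z)⁻¹ * φ * MulAut.conj z) ^ p = (MulAut.conj z)⁻¹ * φ ^ p * MulAut.conj z := by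
          have h3 := conj_pow (i := p) (a := (MulAut.conj z)⁻¹) (b := φ)
          rwa [inv_inv] at h3
        rw [← hconj, hyp, hpow] at h2
        exact h2.symm
      have h2 : σ * MulAut.conj z = MulAut.conj z * σ := by
        calc σ * MulAut.conj z = MulAut.conj z * ((MulAut.conj z)⁻¹ * σ * MulAut.conj z) := by group
          _ = MulAut.conj z * σ := by rw [h1]
      have h3 : z⁻¹ * σ z ∈ center Y := by
        rw [mem_center_iff]
        intro u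
        have h4 := congrArg (fun f : MulAut Y => f (σ⁻¹ u)) h2
        have h5 : σ (z * σ⁻¹ u * z⁻¹) = z * σ (σ⁻¹ u) * z⁻¹ := h4
        rw [map_mul, map_mul, map_inv, MulAut.apply_inv_self] at h5
        calc u * (z⁻¹ * σ z) = z⁻¹ * (z * u * z⁻¹) * σ z := by group
          _ = z⁻¹ * (σ z * u * (σ z)⁻¹) * σ z := by rw [h5]
          _ = z⁻¹ * σ z * u := by group
      rw [hZ, mem_bot, inv_mul_eq_one] at h3
      exact h3.symm
    obtain ⟨g, t, ht, hzt⟩ := hsplit z hσz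
    have hact : ∀ s, ι ((MulAut.conj g * c ^ i * (MulAut.conj g)⁻¹) s) =
        t⁻¹ * (φ (t * ι s * t⁻¹)) * t⁻¹⁻¹ := by
      intro s
      have e1 : (MulAut.conj g)⁻¹ s = g⁻¹ * s * g := by
        rw [← map_inv, MulAut.conj_apply, inv_inv]
      show ι (g * (c ^ i) ((MulAut.conj g)⁻¹ s) * g⁻¹) = t⁻¹ * (φ (t * ι s * t⁻¹)) * t⁻¹⁻¹
      rw [e1, map_mul, map_mul, hy]
      show ι g * (y * φ (ι (g⁻¹ * s * g)) * y⁻¹) * ι g⁻¹ = _
      rw [hz, hzt, map_mul, map_mul, map_mul, map_mul, map_mul, map_mul, map_mul, map_inv, map_inv, map_inv]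
      group
    have hpow' : MulAut.conj g * c ^ i * (MulAut.conj g)⁻¹ = (MulAut.conj g * c * (MulAut.conj g)⁻¹) ^ i :=
      (conj_pow).symm
    have hc'p : (MulAut.conj g * c * (MulAut.conj g)⁻¹) ^ p = 1 := by
      rw [conj_pow, hcp, mul_one, mul_inv_cancel]
    obtain ⟨j, -, hj⟩ := Nat.exists_mul_mod_eq_one_of_coprime hi hp.one_lt
    have h1 : MulAut.conj g * c * (MulAut.conj g)⁻¹ = (MulAut.conj g * c ^ i * (MulAut.conj g)⁻¹) ^ j := by
      rw [hpow', ← pow_mul, ← Nat.div_add_mod (i * j) p, pow_add, pow_mul, hc'p, one_pow, one_mul, hj, pow_one]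
    refine ⟨g, ?_⟩
    rw [h1]
    have h2 : ∀ s, ι s ∈ A → ι ((MulAut.conj g * c ^ i * (MulAut.conj g)⁻¹) s) ∈ A := by
      intro s hs
      rw [hact]
      exact hT _ (inv_mem ht) _ (hφA _ (hT t ht _ hs))
    have h3 : ∀ m : ℕ, ∀ s, ι s ∈ A → ι (((MulAut.conj g * c ^ i * (MulAut.conj g)⁻¹) ^ m) s) ∈ A := by
      intro m
      induction m with
      | zero => intro s hs; rw [pow_zero]; exact hs
      | succ m ih => intro s hs; rw [pow_succ', MulAut.mul_apply]; exact h2 _ (ih s hs)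
    exact h3 j

end Pres

section Core

variable {S : Type v} [Group S] {L T : Subgroup S}

/-- `T L / L` is commutative -/
theorem comm_le (hTL : ∀ t ∈ T, ∀ l ∈ L, t * l * t⁻¹ ∈ L) (hTT : ∀ s ∈ T, ∀ t ∈ T, s * t = t * s) {Q : Subgroup S}
    (hcen : ∀ s ∈ Q, ∃ t ∈ T, ∃ l ∈ L, s = t * l) : ⁅Q, Q⁆ ≤ L := by
  rw [Subgroup.commutator_le]
  intro a ha b hb
  obtain ⟨t, ht, l, hl, rfl⟩ := hcen a ha
  obtain ⟨t', ht', l', hl', rfl⟩ := hcen b hb
  have hTL' : ∀ t ∈ T, ∀ l ∈ L, t⁻¹ * l * t ∈ L := fun t ht l hl => by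
    have := hTL _ (inv_mem ht) l hl
    rwa [inv_inv] at this
  have e : ⁅t * l, t' * l'⁆ = (t * t') * ((t'⁻¹ * l * t' * l') * (t⁻¹ * l' * t * l)⁻¹) * (t * t')⁻¹ := by
    rw [commutatorElement_def]
    have h1 : t * t' = t' * t := hTT t ht t' ht'
    have h2 : (t * t')⁻¹ = t⁻¹ * t'⁻¹ := by rw [h1, mul_inv_rev]
    rw [h2]
    group
  rw [e]
  exact hTL _ (mul_mem ht ht') _ (mul_mem (mul_mem (hTL' t' ht' l hl) hl')
    (inv_mem (mul_mem (hTL' t ht l' hl') hl)))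

/-- automorphisms preserving `Q` preserve `L` -/
theorem pres_of [Finite S] (hL : ⁅L, L⁆ = L) (hTL : ∀ t ∈ T, ∀ l ∈ L, t * l * t⁻¹ ∈ L)
    (hTT : ∀ s ∈ T, ∀ t ∈ T, s * t = t * s) {Q : Subgroup S} (hLQ : ∀ l ∈ L, ∀ x ∈ Q, l * x = x * l)
    (hcen : ∀ s, (∀ x ∈ Q, s * x = x * s) → ∃ t ∈ T, ∃ l ∈ L, s = t * l) {a : MulAut S} (ha : ∀ x ∈ Q, a x ∈ Q) :
    ∀ l ∈ L, a l ∈ L := by
  have h1 : ⁅Subgroup.centralizer (Q : Set S), Subgroup.centralizer (Q : Set S)⁆ = L := by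
    apply le_antisymm
    · refine comm_le hTL hTT fun s hs => hcen s fun x hx => ?_
      exact ((Subgroup.mem_centralizer_iff.1 hs) x hx).symm
    · have h2 : L ≤ Subgroup.centralizer (Q : Set S) := by
        intro l hl
        rw [Subgroup.mem_centralizer_iff]
        intro x hx
        exact (hLQ l hl x hx).symm
      conv_lhs => rw [← hL]
      exact Subgroup.commutator_mono h2 h2
  have hQ : Q.map a.toMonoidHom = Q := by
    refine Subgroup.eq_of_le_of_card_ge ?_ (le_of_eq ?_)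
    · rintro _ ⟨x, hx, rfl⟩
      exact ha x hx
    · exact (Subgroup.card_map_of_injective a.injective).symm
  have h3 : (Subgroup.centralizer (Q : Set S)).map a.toMonoidHom ≤ Subgroup.centralizer (Q : Set S) := by
    rintro _ ⟨s, hs, rfl⟩
    rw [Subgroup.mem_centralizer_iff]
    intro x hx
    have hx' : x ∈ Q.map a.toMonoidHom := by rw [hQ]; exact hx
    obtain ⟨y, hy, rfl⟩ := hx'
    rw [← map_mul, ← map_mul, (Subgroup.mem_centralizer_iff.1 hs) y hy]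
  have h4 : L.map a.toMonoidHom ≤ L := by
    conv_lhs => rw [← h1]
    rw [Subgroup.map_commutator]
    conv_rhs => rw [← h1]
    exact Subgroup.commutator_mono h3 h3
  intro l hl
  exact h4 ⟨l, hl, rfl⟩

variable {R R0 : Subgroup S} {p : ℕ}

/-- **The row from `R`, `L`.** -/
theorem wf_core [hp : Fact p.Prime] [Finite S] [IsSimpleGroup S] (h0 : R0 ≤ R) (hL : QS L) (hne : L ≠ ⊤)
    (hLR : ∀ l ∈ L, ∀ x ∈ R, l * x = x * l) (hTL : ∀ t ∈ T, ∀ l ∈ L, t * l * t⁻¹ ∈ L)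
    (hTT : ∀ s ∈ T, ∀ t ∈ T, s * t = t * s)
    (hcen : ∀ s, (∀ x ∈ R0, s * x = x * s) → ∃ t ∈ T, ∃ l ∈ L, s = t * l)
    {n : S} (hn : ∀ x ∈ R0, n * x * n⁻¹ ∈ L)
    (hgen : ∀ c : MulAut S, (∀ l ∈ L, c l = l) → (∀ l ∈ L, c (n * l * n⁻¹) = n * l * n⁻¹) → c = 1)
    (hred : ∀ c : MulAut S, orderOf c = p → ∃ g : S, ∀ s ∈ R, (MulAut.conj g * c * (MulAut.conj g)⁻¹) s ∈ R) :
    WfRow.{u, v} p S := by
  refine H71.Wf.WfRow.of_local hL hne fun c hc => ?_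
  obtain ⟨g, hg⟩ := hred c hc
  obtain ⟨c', hc'⟩ : ∃ c', c' = MulAut.conj g * c * (MulAut.conj g)⁻¹ := ⟨_, rfl⟩
  rw [← hc'] at hg
  have h1 := pres_of hL.perfect hTL hTT hLR (fun s hs => hcen s fun x hx => hs x (h0 hx)) hg
  by_cases h2 : ∃ l ∈ L, c' l ≠ l
  · exact ⟨g, by rw [← hc']; exact ⟨h1, h2⟩⟩
  push Not at h2
  -- the conjugate by `n`
  obtain ⟨d, hd⟩ : ∃ d, d = MulAut.conj n⁻¹ * c' * MulAut.conj n := ⟨_, rfl⟩
  have hd' : d = MulAut.conj (n⁻¹ * g) * c * (MulAut.conj (n⁻¹ * g))⁻¹ := by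
    rw [hd, hc', map_mul, mul_inv_rev, map_inv, inv_inv]
    group
  have hdn : ∀ x, c' (n * x * n⁻¹) = n * d x * n⁻¹ := by
    intro x
    rw [hd]
    show c' (n * x * n⁻¹) = n * (n⁻¹ * c' (n * x * n⁻¹) * n⁻¹⁻¹) * n⁻¹
    group
  have hfix : ∀ x, c' (n * x * n⁻¹) = n * x * n⁻¹ → d x = x := by
    intro x hx
    rw [hdn] at hx
    exact mul_left_cancel (mul_right_cancel hx)
  have h3 : ∀ x ∈ R0, d x ∈ R0 := by
    intro x hx
    rw [hfix x (h2 _ (hn x hx))]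
    exact hx
  have h4 := pres_of hL.perfect hTL hTT (fun l hl x hx => hLR l hl x (h0 hx)) hcen h3
  by_cases h5 : ∃ l ∈ L, d l ≠ l
  · exact ⟨n⁻¹ * g, by rw [← hd']; exact ⟨h4, h5⟩⟩
  push Not at h5
  exfalso
  have h6 : c' = 1 := hgen c' h2 fun l hl => by rw [hdn, h5 l hl]
  have h7 : c = 1 := by
    have : c = (MulAut.conj g)⁻¹ * c' * MulAut.conj g := by rw [hc']; group
    rw [this, h6]; group
  rw [h7, orderOf_one] at hc
  exact hp.out.one_lt.ne hc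

end Core

end Cfsg.Agent.H807.WfE6.Abs
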